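import Cfsg.Agent.H415.PG.Def
import Cfsg.Agent.H366.X.Frame

/-!
# The frame of a group with two coprime isolated numbers, prime graph version (helper415, S3635)
-/

set_option autoImplicit false

namespace Cfsg.Agent.H415.PG3

open Cfsg Cfsg.Agent.H414.Vasiliev Cfsg.Agent.H414.Comp Subgroup

universe u v

section
variable {G : Type u} [Group G] [Finite G]

omit [Finite G] in
theorem coc {n m : ℕ} (h0 : 2 ∣ Nat.card G) (h1 : Ip G n) (h2 : Ip G m) (hc : Nat.Coprime n m) {p s : ℕ}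
    (hp : p.Prime) (hs : s.Prime) (hpn : p ∣ n) (hsm : s ∣ m) : Coc G {2, p, s} ∧ p ≠ 2 ∧ s ≠ 2 ∧ p ≠ s := by
  have hp2 : p ≠ 2 := by rintro rfl; exact h1.not_two_dvd hpn
  have hs2 : s ≠ 2 := by rintro rfl; exact h2.not_two_dvd hsm
  have hps : p ≠ s := by
    rintro rfl
    exact hp.one_lt.ne' (Nat.dvd_one.1 (hc ▸ Nat.dvd_gcd hpn hsm))
  have hsn : ¬ s ∣ n := fun h => hs.one_lt.ne' (Nat.dvd_one.1 (hc ▸ Nat.dvd_gcd h hsm))
  have hpm : ¬ p ∣ m := fun h => hp.one_lt.ne' (Nat.dvd_one.1 (hc ▸ Nat.dvd_gcd hpn h))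
  have k1 := h1.iso p 2 hp Nat.prime_two hpn h1.not_two_dvd
  have k2 := h1.iso p s hp hs hpn hsn
  have k3 := h2.iso s 2 hs Nat.prime_two hsm h2.not_two_dvd
  have k4 := h2.iso s p hs hp hsm hpm
  refine ⟨⟨?_, ?_⟩, hp2, hs2, hps⟩
  · intro r hr
    simp only [Finset.mem_insert, Finset.mem_singleton] at hr
    rcases hr with rfl | rfl | rfl
    · exact ⟨Nat.prime_two, h0⟩
    · exact ⟨hp, h1.dvd _ hp hpn⟩
    · exact ⟨hs, h2.dvd _ hs hsm⟩
  · intro a ha b hb hab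
    simp only [Finset.mem_insert, Finset.mem_singleton] at ha hb
    rcases ha with rfl | rfl | rfl <;> rcases hb with rfl | rfl | rfl
    · exact absurd rfl hab
    · rwa [mul_comm]
    · rwa [mul_comm]
    · exact k1
    · exact absurd rfl hab
    · exact k2
    · exact k3
    · exact k4
    · exact absurd rfl hab

end

/-- **The frame.** -/
theorem frame : Frm.{u, v} := by
  intro L _ G _ _ n₁ n₂ hG h0L h1L h2L hc
  classical
  have h0 : 2 ∣ Nat.card G := (hG.1 2 Nat.prime_two).1 h0L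
  have h1 := h1L.of_same hG
  have h2 := h2L.of_same hG
  obtain ⟨p₁, hp₁, hpn₁⟩ := Nat.exists_prime_and_dvd h1.one_lt.ne'
  obtain ⟨p₂, hp₂, hpn₂⟩ := Nat.exists_prime_and_dvd h2.one_lt.ne'
  obtain ⟨hC, hp₁2, hp₂2, hp₁₂⟩ := coc h0 h1 h2 hc hp₁ hp₂ hpn₁ hpn₂
  have hns : ¬ Group.IsSolvable G := by
    intro hs
    have hs' : Group.IsSolvable ↥(⊤ : Subgroup G) :=
      Group.isSolvable_of_isSolvable_injective (Subgroup.subtype_injective _)
    refine Cfsg.Agent.H395.Coclique.coclique Nat.prime_two hp₁ hp₂ hp₁2.symm hp₂2.symm hp₁₂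
      (hC.2 2 (by simp) p₁ (by simp) hp₁2.symm) (hC.2 2 (by simp) p₂ (by simp) hp₂2.symm)
      (hC.2 p₁ (by simp) p₂ (by simp) hp₁₂) ⊤ hs' ?_ ?_ (hC.1 p₂ (by simp)).2
    · rw [Subgroup.card_top]; exact (hC.1 2 (by simp)).2
    · rw [Subgroup.card_top]; exact (hC.1 p₁ (by simp)).2
  obtain ⟨K, hKn, hK, hKmax⟩ := Cfsg.Agent.H366.X.exists_rad G
  obtain ⟨S, hS, hSn, hSc, hV, -⟩ := Cfsg.Agent.H414.Vasiliev.main hns
    ⟨p₁, hp₁, hp₁2, (hC.1 p₁ (by simp)).2, hC.2 2 (by simp) p₁ (by simp) hp₁2.symm⟩ K hK hKmax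
  have hbad1 : ∀ p : ℕ, p.Prime → p ∣ n₁ → ¬ p ∣ Nat.card ↥K ∧ ¬ p ∣ S.index := by
    intro p hp hpn
    obtain ⟨hC', h2', h3', h4'⟩ := coc h0 h1 h2 hc hp hp₂ hpn hpn₂
    exact Cfsg.Agent.H321.SpecEven.not_dvd K hK S hS hSc h2' h3' h4' hC'
  have hbad2 : ∀ p : ℕ, p.Prime → p ∣ n₂ → ¬ p ∣ Nat.card ↥K ∧ ¬ p ∣ S.index := by
    intro p hp hpn
    obtain ⟨hC', h2', h3', h4'⟩ := coc h0 h2 h1 hc.symm hp hp₁ hpn hpn₁
    exact Cfsg.Agent.H321.SpecEven.not_dvd K hK S hS hSc h2' h3' h4' hC'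
  have hcard : Nat.card G = Nat.card K * (Nat.card S * S.index) := by
    rw [Subgroup.card_mul_index, ← Subgroup.index_eq_card, Subgroup.card_mul_index]
  have hdS : ∀ r : ℕ, r.Prime → r ∣ Nat.card G → r ∣ Nat.card K * S.index ∨ r ∣ Nat.card S := by
    intro r hr h3
    rw [hcard] at h3
    rcases hr.dvd_mul.1 h3 with h4 | h4
    · exact Or.inl (h4.mul_right _)
    · rcases hr.dvd_mul.1 h4 with h5 | h5
      · exact Or.inr h5
      · exact Or.inl (h5.mul_left _)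
  have lift : ∀ m : ℕ, (∃ y : S, orderOf y = m) → ∃ g : G, orderOf g = m := by
    rintro m ⟨y, hy⟩
    obtain ⟨g, hg⟩ := Cfsg.Agent.H373.Recog.exists_lift K (y : G ⧸ K)
    rw [Subgroup.orderOf_coe] at hg
    exact ⟨g, by rw [hg, hy]⟩
  have key : ∀ n : ℕ, Ip G n → (∀ p : ℕ, p.Prime → p ∣ n → ¬ p ∣ Nat.card ↥K ∧ ¬ p ∣ S.index) → Ip S n := by
    intro n hn hb
    refine ⟨fun r hr hrn => ?_, fun r s hr hs hrn hsn hy => ?_, hn.not_two_dvd, hn.one_lt⟩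
    · rcases hdS r hr (hn.dvd r hr hrn) with h4 | h4
      · rcases hr.dvd_mul.1 h4 with h5 | h5
        · exact absurd h5 (hb r hr hrn).1
        · exact absurd h5 (hb r hr hrn).2
      · exact h4
    · exact hn.iso r s hr hs hrn hsn (lift _ hy)
  refine ⟨K, hKn, hK, ?_, S, hSn, hS.simple, ?_, hSc, ?_⟩
  · apply Nat.Coprime.mul_right
    · exact Nat.coprime_of_dvd fun p hp h4 h5 => (hbad1 p hp h5).1 h4
    · exact Nat.coprime_of_dvd fun p hp h4 h5 => (hbad2 p hp h5).1 h4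
  · obtain ⟨a, b, hab⟩ := hS.noncomm
    exact fun h => hab (h.is_comm.comm a b)
  · refine ⟨fun r hr hrS => ?_, fun r s hr hs hrs hx => (hG.2 r s hr hs hrs).2 (lift _ hx), key n₁ h1 hbad1,
      key n₂ h2 hbad2, ?_⟩
    · rw [hG.1 r hr, hcard]
      exact (hrS.mul_right _).mul_left _
    · intro ρ hρ1 hρ2 h3 p hp q hq hpS hqS
      have hC : Coc G ρ := by
        refine ⟨fun r hr => ⟨(hρ1 r hr).1, (hG.1 r (hρ1 r hr).1).1 (hρ1 r hr).2⟩, fun r hr s hs hrs hx => ?_⟩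
        exact hρ2 r hr s hs hrs ((hG.2 r s (hρ1 r hr).1 (hρ1 s hs).1 hrs).2 hx)
      exact hV ρ hC h3 p hp q hq ((hdS p (hC.1 p hp).1 (hC.1 p hp).2).resolve_right hpS)
        ((hdS q (hC.1 q hq).1 (hC.1 q hq).2).resolve_right hqS)

end Cfsg.Agent.H415.PG3
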