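import Cfsg.Agent.H425.KFix
import Cfsg.Agent.H203.GI.FrameC

/-!
# S3635: the solvable radical is trivial, and the conclusion (helper415)

* `MFix L n₁ n₂` : the fixed vector facts for the modules of `L`;
* `kbot` : the radical `K` of the frame is trivial;
* `concl` : the conclusion.
-/

set_option autoImplicit false

namespace Cfsg.Agent.H415.PG3

open Subgroup Cfsg.Agent.H425.KFix
open scoped commutatorElement

universe u v

/-- In every module in characteristic `r` some element `x` of prime order `t` fixes a nonzero vector, and `L` has no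
element of order `r t`. -/
def MFix (L : Type v) [Group L] (n₁ n₂ : ℕ) : Prop :=
  ∀ r : ℕ, r.Prime → r ∣ Nat.card L → ¬ r ∣ n₁ → ¬ r ∣ n₂ →
    ∀ (V : Type u) [AddCommGroup V] [Module (ZMod r) V] [Finite V] [Nontrivial V] (ρ : L →* (V ≃ₗ[ZMod r] V)),
      ∃ t : ℕ, t.Prime ∧ r ≠ t ∧ (¬ ∃ y : L, orderOf y = r * t) ∧ ∃ x : L, orderOf x = t ∧ ∃ v : V, v ≠ 0 ∧ ρ x v = v

section aux

variable {G : Type u} [Group G] [Finite G]

theorem adj_of_mod (K : Subgroup G) [K.Normal] {p : ℕ} (hp : p.Prime) (V : Subgroup G) [V.Normal] (hV1 : V ≠ ⊥)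
    (hVc : ∀ a ∈ V, ∀ b ∈ V, a * b = b * a) (hVp : ∀ a ∈ V, a ^ p = 1)
    (hK : ∀ k ∈ K, ∀ a ∈ V, k * a = a * k) {H : Type v} [Group H] (φ : H →* G ⧸ K) (hφ : Function.Injective φ)
    (T : ℕ → Prop)
    (hF : ∀ (W : Type u) [AddCommGroup W] [Module (ZMod p) W] [Finite W] [Nontrivial W] (ρ : H →* (W ≃ₗ[ZMod p] W)),
      ∃ t : ℕ, t.Prime ∧ p ≠ t ∧ T t ∧ ∃ x : H, orderOf x = t ∧ ∃ w : W, w ≠ 0 ∧ ρ x w = w) :
    ∃ t : ℕ, t.Prime ∧ p ≠ t ∧ T t ∧ ∃ g : G, orderOf g = p * t := by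
  let _ : CommGroup V := { (inferInstance : Group V) with mul_comm := fun a b => Subtype.ext (hVc a a.2 b b.2) }
  have hker : ∀ k ∈ K, (MulAut.conjNormal : G →* MulAut V) k = 1 := fun k hk => by
    ext a
    rw [MulAut.conjNormal_apply, hK k hk a a.2, mul_inv_cancel_right]
    rfl
  let ψ : G ⧸ K →* MulAut V := QuotientGroup.lift K MulAut.conjNormal hker
  have : Nontrivial V := (Subgroup.nontrivial_iff_ne_bot V).2 hV1
  have hW : ∀ w : V, w ^ p = 1 := fun w => Subtype.ext (hVp w w.2)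
  let _ : Module (ZMod p) (Additive V) := AddCommGroup.zmodModule (n := p) (fun a => hW (Additive.toMul a))
  have : Nontrivial (Additive V) := inferInstanceAs (Nontrivial V)
  have : Finite (Additive V) := inferInstanceAs (Finite V)
  obtain ⟨t, ht, hpt, hT, x, hxt, w, hw0, hw⟩ := hF (Additive V) ((toLin p).comp (ψ.comp φ))
  obtain ⟨v, hv0, h1⟩ : ∃ v : V, v ≠ 1 ∧ (ψ (φ x)) v = v := ⟨Additive.toMul w, hw0, hw⟩
  refine ⟨t, ht, hpt, hT, ?_⟩
  obtain ⟨g, hg⟩ := QuotientGroup.mk'_surjective K (φ x)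
  have h2 : g * v * g⁻¹ = v := by
    have h3 : ψ (φ x) = MulAut.conjNormal g := by rw [← hg]; rfl
    rw [h3] at h1
    have h4 := congrArg Subtype.val h1
    rwa [MulAut.conjNormal_apply] at h4
  have hcomm : Commute (v : G) g := by
    have h3 : g * v = v * g := by rwa [mul_inv_eq_iff_eq_mul] at h2
    exact h3.symm
  have hv1 : (v : G) ≠ 1 := fun h => hv0 (Subtype.ext h)
  have hvo : orderOf (v : G) = p := by
    have := Fact.mk hp
    exact orderOf_eq_prime (hVp v v.2) hv1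
  have hx : orderOf (φ x) = t := by rw [orderOf_injective φ hφ, hxt]
  have hrg : t ∣ orderOf g := by
    have h3 := orderOf_map_dvd (QuotientGroup.mk' K) g
    rwa [hg, hx] at h3
  obtain ⟨m, hm⟩ := hrg
  have hm0 : m ≠ 0 := by
    rintro rfl
    rw [mul_zero] at hm
    exact (orderOf_pos g).ne' hm
  have hgo : orderOf (g ^ m) = t := by
    rw [orderOf_pow_of_dvd hm0 (Dvd.intro_left _ hm.symm), hm]
    exact Nat.mul_div_cancel _ (Nat.pos_of_ne_zero hm0)
  refine ⟨v * g ^ m, ?_⟩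
  rw [(hcomm.pow_right m).orderOf_mul_eq_mul_orderOf_of_coprime (by
    rw [hvo, hgo]
    exact (Nat.coprime_primes hp ht).2 hpt), hvo, hgo]

/-- lift of an element order through a quotient -/
theorem lift_order (M : Subgroup G) [M.Normal] {n : ℕ} (hn : n ≠ 0) {g : G ⧸ M} (hg : orderOf g = n) :
    ∃ y : G, orderOf y = n := by
  obtain ⟨h, rfl⟩ := QuotientGroup.mk'_surjective M g
  have h1 : n ∣ orderOf h := by
    have h3 := orderOf_map_dvd (QuotientGroup.mk' M) h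
    rwa [hg] at h3
  exact ⟨h ^ (orderOf h / n), by rw [orderOf_pow_orderOf_div (orderOf_pos h).ne' h1]⟩

end aux

/-- **The radical is trivial.** -/
theorem kbot {L : Type v} [Group L] {G : Type u} [Group G] [Finite G] {n₁ n₂ : ℕ} (hG : SameG L G)
    (hM : MFix.{u, v} L n₁ n₂) (K : Subgroup G) [K.Normal] (hK : Group.IsSolvable K)
    (hKc : (Nat.card K).Coprime (n₁ * n₂)) (φ : L →* G ⧸ K) (hφ : Function.Injective φ) : K = ⊥ := by
  by_contra hK1
  have hKt : Nontrivial K := (Subgroup.nontrivial_iff_ne_bot K).2 hK1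
  -- the derived group
  let M : Subgroup G := ⁅K, K⁆
  have hMK : M ≤ K := Subgroup.commutator_le_left K K
  have hMne : M ≠ K := by
    intro h
    have h1 : commutator ↥K < ⊤ := by
      exact Group.IsSolvable.commutator_lt_top_of_nontrivial _
    have h2 : (commutator ↥K).map K.subtype = M := by
      rw [commutator_def, Subgroup.map_commutator]
      simp [M, ← MonoidHom.range_eq_map]
    apply h1.ne
    have h3 : (commutator ↥K).map K.subtype = (⊤ : Subgroup ↥K).map K.subtype := by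
      rw [h2, h, ← MonoidHom.range_eq_map, Subgroup.range_subtype]
    exact Subgroup.map_injective K.subtype_injective h3
  let K' : Subgroup (G ⧸ M) := K.map (QuotientGroup.mk' M)
  have hK'n : K'.Normal := Subgroup.Normal.map inferInstance _ (QuotientGroup.mk'_surjective M)
  have hK'c : ∀ a ∈ K', ∀ b ∈ K', a * b = b * a := by
    rintro _ ⟨a, ha, rfl⟩ _ ⟨b, hb, rfl⟩
    rw [← map_mul, ← map_mul]
    refine (QuotientGroup.eq (s := M)).2 ?_
    have h1 : (a * b)⁻¹ * (b * a) = ⁅b⁻¹, a⁻¹⁆ := by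
      rw [commutatorElement_def]; group
    rw [h1]
    exact Subgroup.commutator_mem_commutator (K.inv_mem hb) (K.inv_mem ha)
  have hK'1 : K' ≠ ⊥ := by
    intro h
    apply hMne
    refine le_antisymm hMK ?_
    have h2 := (Subgroup.map_eq_bot_iff _).1 h
    rwa [QuotientGroup.ker_mk'] at h2
  have hcard : Nat.card K' ≠ 1 := fun h => hK'1 (Subgroup.card_eq_one.1 h)
  obtain ⟨p, hp, hpd⟩ := Nat.exists_prime_and_dvd hcard
  have hpK : p ∣ Nat.card K := hpd.trans (Subgroup.card_map_dvd _ _)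
  have hpn₁ : ¬ p ∣ n₁ := fun h => hp.one_lt.ne' (Nat.eq_one_of_dvd_coprimes hKc hpK (h.trans (Dvd.intro _ rfl)))
  have hpn₂ : ¬ p ∣ n₂ := fun h => hp.one_lt.ne' (Nat.eq_one_of_dvd_coprimes hKc hpK (h.trans (Dvd.intro_left _ rfl)))
  have hpL : p ∣ Nat.card L := (hG.1 p hp).2 (hpK.trans (Subgroup.card_subgroup_dvd_card K))
  -- the elements of order dividing `p`
  let V : Subgroup (G ⧸ M) :=
    { carrier := {g | g ∈ K' ∧ g ^ p = 1}
      one_mem' := ⟨K'.one_mem, one_pow p⟩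
      mul_mem' := by
        rintro a b ⟨ha, ha2⟩ ⟨hb, hb2⟩
        refine ⟨K'.mul_mem ha hb, ?_⟩
        have : Commute a b := hK'c a ha b hb
        rw [this.mul_pow, ha2, hb2, one_mul]
      inv_mem' := by
        rintro a ⟨ha, ha2⟩
        exact ⟨K'.inv_mem ha, by rw [inv_pow, ha2, inv_one]⟩ }
  have hVm : ∀ g, g ∈ V ↔ g ∈ K' ∧ g ^ p = 1 := fun _ => Iff.rfl
  have hVn : V.Normal := ⟨fun a ha g => by
    rw [hVm] at ha ⊢
    exact ⟨hK'n.conj_mem a ha.1 g, by rw [conj_pow, ha.2, mul_one, mul_inv_cancel]⟩⟩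
  have hV1 : V ≠ ⊥ := by
    have := Fact.mk hp
    obtain ⟨z, hz⟩ := exists_prime_orderOf_dvd_card' p hpd
    intro h
    have h1 : (z : G ⧸ M) ∈ V := by
      rw [hVm]
      refine ⟨z.2, ?_⟩
      have : z ^ p = 1 := by rw [← hz, pow_orderOf_eq_one]
      exact congrArg Subtype.val this
    rw [h, Subgroup.mem_bot] at h1
    have h2 : z = 1 := Subtype.ext h1
    rw [h2, orderOf_one] at hz
    exact hp.one_lt.ne hz
  let e := QuotientGroup.quotientQuotientEquivQuotient M K hMK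
  obtain ⟨t, ht, hpt, hT, g, hg⟩ := adj_of_mod K' hp V hV1 (fun a ha b hb => hK'c a ((hVm a).1 ha).1 b ((hVm b).1 hb).1)
    (fun a ha => ((hVm a).1 ha).2) (fun k hk a ha => hK'c k hk a ((hVm a).1 ha).1) (e.symm.toMonoidHom.comp φ)
    (e.symm.injective.comp hφ) (fun t => ¬ ∃ y : L, orderOf y = p * t) (hM p hp hpL hpn₁ hpn₂)
  obtain ⟨y, hy⟩ := lift_order M (Nat.mul_ne_zero hp.ne_zero ht.ne_zero) hg
  exact hT ((hG.2 p t hp ht hpt).2 ⟨y, hy⟩)

/-- **The conclusion.** -/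
theorem concl {L : Type v} [Group L] {n₁ n₂ : ℕ} (h2 : 2 ∣ Nat.card L) (hi₁ : Ip L n₁) (hi₂ : Ip L n₂)
    (hc : Nat.Coprime n₁ n₂)
    (hid : ∀ (S : Type u) [Group S] [Finite S], IsSimpleGroup S → ¬ IsMulCommutative S → Hyp L S n₁ n₂ →
      (Cfsg.Agent.H203.GI.Clq L n₁ → Cfsg.Agent.H203.GI.Clq S n₁) → Nonempty (S ≃* L))
    (hM : MFix.{u, v} L n₁ n₂) : Concl.{u, v} L := by
  intro G _ _ hG
  obtain ⟨K, hKn, hK, hKc, S, hSn, hSs, hSc, hcen, hyp, hq, -⟩ :=
    Cfsg.Agent.H203.GI.frameC L G n₁ n₂ hG h2 hi₁ hi₂ hc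
  obtain ⟨e⟩ := hid S hSs hSc hyp hq
  have hb : K = ⊥ := kbot hG hM K hK hKc (S.subtype.comp e.symm.toMonoidHom)
    (S.subtype_injective.comp e.symm.injective)
  subst hb
  let f : G ⧸ (⊥ : Subgroup G) ≃* G := QuotientGroup.quotientBot
  refine ⟨S.map f.toMonoidHom, Subgroup.Normal.map hSn _ f.surjective,
    ⟨(S.equivMapOfInjective f.toMonoidHom f.injective).symm.trans e⟩, ?_⟩
  rw [eq_bot_iff]
  intro g hg
  have h3 : f.symm g ∈ Subgroup.centralizer (S : Set (G ⧸ (⊥ : Subgroup G))) := by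
    rw [Subgroup.mem_centralizer_iff] at hg ⊢
    intro s hs
    have h4 := hg (f s) ⟨s, hs, rfl⟩
    apply f.injective
    rw [map_mul, map_mul, f.apply_symm_apply]
    exact h4
  rw [hcen, Subgroup.mem_bot] at h3
  rw [Subgroup.mem_bot, ← f.apply_symm_apply g, h3, map_one]

/-- `MFix` from `Fix` -/
theorem mfix_of_fix {L : Type v} [Group L] {n₁ n₂ : ℕ} (hi₁ : Ip L n₁) (hi₂ : Ip L n₂)
    (h : ∀ r : ℕ, r.Prime → r ∣ Nat.card L → ¬ r ∣ n₁ → ¬ r ∣ n₂ → Fix.{v, u} L r (n₁ * n₂)) :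
    MFix.{u, v} L n₁ n₂ := by
  intro r hr hrL hr₁ hr₂ V _ _ _ _ ρ
  obtain ⟨x, hx, hxn, v, hv, hxv⟩ := h r hr hrL hr₁ hr₂ V ρ
  rcases (Nat.Prime.dvd_mul hx).1 hxn with h1 | h1
  · refine ⟨_, hx, fun h => hr₁ (h ▸ h1), ?_, x, rfl, v, hv, hxv⟩
    rw [mul_comm]
    exact hi₁.iso _ _ hx hr h1 hr₁
  · refine ⟨_, hx, fun h => hr₂ (h ▸ h1), ?_, x, rfl, v, hv, hxv⟩
    rw [mul_comm]
    exact hi₂.iso _ _ hx hr h1 hr₂

end Cfsg.Agent.H415.PG3
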